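import Cfsg.Agent.H995.CopCoprime
import Cfsg.Agent.H995.CopLarge
import Cfsg.Agent.H848.MonsterSetup
import Cfsg.Agent.H713.Spor.MOf
import Cfsg.Agent.BpSpor.MBigCo
import Cfsg.Agent.H94.Sp.Base_m3
import Cfsg.Agent.Prune
set_option linter.all false
open scoped Cfsg.Agent.FastGrp

/-!
# No two classes of coprime sizes in the Monster (helper995, for S4158)
-/

set_option autoImplicit false

namespace Cfsg.Agent.H995.CopTwo

open Subgroup Cfsg Cfsg.Agent.H530.Cop Cfsg.Agent.H995.CopEngine

/-- the factorization of `|M|` -/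
def lM : List (ℕ × ℕ) := [(2, 46), (3, 20), (5, 9), (7, 6), (11, 2), (13, 3), (17, 1), (19, 1), (23, 1), (29, 1), (31, 1),
  (41, 1), (47, 1), (59, 1), (71, 1)]

theorem lM_valid : OrdDiv.valid lM 808017424794512875886459904961710757005754368000000000 = true := by decide +kernel

theorem chkM : chkOne lM 808017424794512875886459904961710757005754368000000000 59 102660 = true := by decide +kernel

/-- no involution centralizer of the Monster has order divisible by 59 -/
theorem iso_fiftynine (t : Spor.Monster) (ht : orderOf t = 2) :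
    ¬ 59 ∣ Nat.card (centralizer ({t} : Set Spor.Monster)) := by
  obtain ⟨e⟩ := Cfsg.Agent.MonsterP.Equiv.equiv
  have h1 := Cfsg.Agent.H713.Spor.MOf.card_cent Cfsg.Agent.MonsterU.Uncond.all (e t) (by rw [MulEquiv.orderOf_eq, ht])
  have h2 : Nat.card (centralizer ({t} : Set Spor.Monster)) ∣ Nat.card (centralizer ({e t} : Set _)) := by
    rw [← card_map_of_injective (f := e.toMonoidHom) e.injective]
    refine card_dvd_of_le ?_
    rintro _ ⟨g, hg, rfl⟩
    have h3 := mem_cent.1 hg
    exact mem_cent.2 (by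
      show e g * e t = e t * e g
      rw [← map_mul, ← map_mul, h3])
  intro h59
  have h3 := h59.trans h2
  simp only [List.mem_cons, List.not_mem_nil, or_false] at h1
  rcases h1 with h1 | h1 <;> rw [h1] at h3 <;> norm_num at h3

/-- no subgroup of order 143 in `Co1` -/
theorem co1_no_143 (F : Subgroup Spor.Co1) (hF : Nat.card F = 143) : False := by
  have hfin : Finite Spor.Co1 := Cfsg.Agent.BpSpor.MBigCo.finite_co1
  have hcyc : IsCyclic F := by
    apply Cfsg.Agent.H94.PG.Sp.isCyclic_of_card
    · rw [hF]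
      have h1 : Nat.Prime 11 := by norm_num
      have h2 : Nat.Prime 13 := by norm_num
      exact (Nat.squarefree_mul (m := 11) (n := 13) (by norm_num)).2 ⟨h1.prime.squarefree, h2.prime.squarefree⟩
    · rw [hF]; decide +kernel
  have : Fact (Nat.Prime 11) := ⟨by norm_num⟩
  obtain ⟨s, hs⟩ := exists_prime_orderOf_dvd_card' (G := F) 11 (by rw [hF]; norm_num)
  have hs' : orderOf (s : Spor.Co1) = 11 := by rw [Subgroup.orderOf_coe]; exact hs
  have h1 := Cfsg.Agent.BpSpor.MBigCo.card_cent hs'
  have h2 : F ≤ centralizer ({(s : Spor.Co1)} : Set Spor.Co1) := by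
    intro g hg
    rw [mem_cent]
    have h3 : (⟨g, hg⟩ : F) * s = s * ⟨g, hg⟩ := hcyc.commGroup.mul_comm _ _
    exact congrArg Subtype.val h3
  have h3 := Nat.le_of_dvd Nat.card_pos (card_dvd_of_le h2)
  rw [hF] at h3
  omega

open Cfsg.Agent.MonsterU.Ch Cfsg.Agent.MonsterU.Lam2

/-- no subgroup of order 143 in `C(z)` -/
theorem no_143 {Q : Subgroup Spor.Monster} {z : Spor.Monster} {eta : Spor.Monster → L2}
    {pi : centralizer ({z} : Set Spor.Monster) →* Spor.Co1} (h : Chart Q z eta pi)
    (E : Subgroup Spor.Monster) (hE : E ≤ centralizer ({z} : Set Spor.Monster)) (hc : Nat.card E = 143) : False := by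
  let E' : Subgroup (centralizer ({z} : Set Spor.Monster)) := E.subgroupOf _
  have hE' : Nat.card E' = 143 := by
    rw [Nat.card_congr (subgroupOfEquivOfLe hE).toEquiv, hc]
  refine co1_no_143 (E'.map pi) ?_
  have hinj : Function.Injective (pi.comp E'.subtype) := by
    rw [injective_iff_map_eq_one]
    intro a ha
    have h1 : ((a : centralizer ({z} : Set Spor.Monster)) : Spor.Monster) ∈ Q := (h.pi_eq_one _).1 ha
    have h2 : orderOf a ∣ 143 := hE' ▸ orderOf_dvd_natCard a
    have h3 : orderOf a ∣ 2 ^ 25 := by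
      have h4 := h.card_Q
      have h5 := Subgroup.orderOf_dvd_natCard Q h1
      rw [Subgroup.orderOf_coe, Subgroup.orderOf_coe, h4] at h5
      exact h5
    exact orderOf_eq_one_iff.1 (Nat.eq_one_of_dvd_coprimes (by decide) h2 h3)
  have h6 : E'.map pi = (pi.comp E'.subtype).range := by
    rw [MonoidHom.range_comp, range_subtype]
  rw [h6, ← Nat.card_congr (MonoidHom.ofInjective hinj).toEquiv, hE']

/-- **The Monster.** -/
theorem noCop_monster (hK : AllKnown.{0}) : NoCop Spor.Monster := by
  have hs := Cfsg.Agent.H848.MonsterSetup.simple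
  have hf := Cfsg.Agent.H848.MonsterSetup.finite
  have hc := Cfsg.Agent.H848.MonsterSetup.card
  obtain ⟨Q, z, eta, pi, h⟩ := Cfsg.Agent.H848.MonsterSetup.exists_chart
  have hna : ¬ IsMulCommutative Spor.Monster := not_comm_of_card (by rw [hc]; norm_num)
  refine noCop_of_bad hna Nat.prime_two Q (large_pGroup h.large) fun x y hB _ hxQ => ?_
  rcases large_cent h.large hxQ with hx | hx
  · exact hB.x1 hx
  subst hx
  have hcx : Nat.card (centralizer ({x} : Set Spor.Monster)) = 2 ^ 25 * 4157776806543360000 :=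
    Cfsg.Agent.MonsterU.AmalElts.card_centralizer h
  have d59 : 59 ∣ ci x := dvd_ci_of_not_dvd (k := 1) (by norm_num) (by rw [hc]; norm_num) (by rw [hcx]; norm_num)
  have d11 : 11 ∣ ci x := dvd_ci_of_not_dvd (k := 2) (by norm_num) (by rw [hc]; norm_num) (by rw [hcx]; norm_num)
  have d13 : 13 ∣ ci x := dvd_ci_of_not_dvd (k := 2) (by norm_num) (by rw [hc]; norm_num) (by rw [hcx]; norm_num)
  set H := centralizer ({y} : Set Spor.Monster) with hH
  have h59H : 59 ∣ Nat.card H := by
    have := hB.pow_dvd (by norm_num) d59 (k := 1) (by rw [hc]; norm_num)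
    rwa [pow_one] at this
  obtain ⟨K, hKn, h59K, hidx⟩ := exists_normal hK (not_top_of_bad hna hB) hc lM_valid (by norm_num) h59H
    (by norm_num) chkM (dvd_mod_one (by norm_num) 1740 30 (by norm_num) (by norm_num) (by norm_num) (by decide))
  have hcondG : ∀ i, 1 ≤ i → 2 ^ i ∣ Nat.card Spor.Monster → ¬ 59 ∣ 2 ^ i - 1 := by
    rw [hc]
    exact cond_of_chk (m := 46) Nat.prime_two (by norm_num) (by decide +kernel)
  have hodd := odd_of_isolated (by norm_num) (by norm_num) K h59K h59H hcondG iso_fiftynine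
  -- the intersection with `C(z)`
  let D : Subgroup H := (centralizer ({x} : Set Spor.Monster)).subgroupOf H
  have hD : Nat.card D = Nat.card ↥(centralizer ({x} : Set Spor.Monster) ⊓ H) := by
    rw [← card_map_of_injective (f := H.subtype) H.subtype_injective, subgroupOf_map_subtype]
  have hL : ∀ q : ℕ, q.Prime → q ∣ ci x → q ∣ 2 ^ 25 * 4157776806543360000 → ¬ q ∣ 59 * (59 - 1) * (59 + 1) →
      q ∣ Nat.card (D ⊓ K : Subgroup H) := by
    intro q hq h1 h2 h3
    have h4 := hB.pow_dvd_inf hq h1 (k := 1) (by rw [hcx, pow_one]; exact h2)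
    rw [← hH, ← hD] at h4
    have h5 := CopEngine.pow_dvd_inf K D hq (fun h6 => h3 (h6.trans hidx)) h4
    rwa [pow_one] at h5
  have hL11 := hL 11 (by norm_num) d11 (by norm_num) (by norm_num)
  have hL13 := hL 13 (by norm_num) d13 (by norm_num) (by norm_num)
  set L : Subgroup H := D ⊓ K with hLdef
  have hLodd : Odd (Nat.card L) := by
    rw [← Nat.not_even_iff_odd, even_iff_two_dvd]
    intro h2
    exact hodd (h2.trans (card_dvd_of_le inf_le_right))
  have hsol : Group.IsSolvable L := Cfsg.Agent.S0205.result hLodd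
  have hLcx : Nat.card L ∣ 2 ^ 25 * 4157776806543360000 := by
    rw [← hcx]
    refine (card_dvd_of_le (show L ≤ D from inf_le_left)).trans ?_
    rw [hD]
    exact card_dvd_of_le inf_le_left
  obtain ⟨n, hn⟩ : 143 ∣ Nat.card L := by
    have h1 : 11 * 13 ∣ Nat.card L := Nat.Coprime.mul_dvd_of_dvd_of_dvd (by norm_num) hL11 hL13
    exact h1
  have hcop : Nat.Coprime 143 n := by
    have e143 : (143 : ℕ) = 11 * 13 := rfl
    rw [e143, Nat.coprime_mul_iff_left, Nat.Prime.coprime_iff_not_dvd (by norm_num),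
      Nat.Prime.coprime_iff_not_dvd (by norm_num)]
    constructor
    · rintro ⟨m, rfl⟩
      have h1 : 121 ∣ Nat.card L := ⟨13 * m, by rw [hn]; ring⟩
      have h2 := h1.trans hLcx
      norm_num at h2
    · rintro ⟨m, rfl⟩
      have h1 : 169 ∣ Nat.card L := ⟨11 * m, by rw [hn]; ring⟩
      have h2 := h1.trans hLcx
      norm_num at h2
  obtain ⟨E, hE⟩ := Cfsg.Agent.Solvable.Hall.hall_exists 143 n hn hcop
  refine no_143 h ((E.map L.subtype).map H.subtype) ?_ ?_
  · rintro _ ⟨_, ⟨g, hg, rfl⟩, rfl⟩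
    exact mem_subgroupOf.1 g.2.1
  · rw [card_map_of_injective H.subtype_injective, card_map_of_injective L.subtype_injective, hE]

theorem noCop_m (hK : AllKnown.{0}) {G : Type*} [Group G] (h : Spor.IsoM G) : NoCop G := by
  obtain ⟨e⟩ := h
  exact NoCop.congr e.symm (noCop_monster hK)

end Cfsg.Agent.H995.CopTwo
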