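import Cfsg.Agent.H241.NHThree
import Cfsg.Agent.H393.Iso.Fi22
import Cfsg.Agent.H713.Spor.Fi22
import Cfsg.Agent.Fischer.Fi22Order
import Cfsg.Agent.H603.SporElim
import Cfsg.Agent.FastGrp
import Cfsg.Agent.Prune
set_option linter.all false
prune_inst 0x7f00000000000000000000000000000000000000000000000000000000000000000000000000000000000000000000000000000000000000000000000000000000000000000000000000000000000000003fffffffffffffffffffffffffffbeffbdffffffff
open scoped Cfsg.Agent.FastGrp

/-! # Row of the nilpotent Hall cluster: `Fi₂₂` (helper995) -/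

set_option autoImplicit false
set_option maxRecDepth 100000
open Cfsg Subgroup

namespace Cfsg.Agent.H995.NH

open Cfsg.Agent.H241.NH
open Cfsg.Agent.H630.NH Cfsg.Agent.H393.Iso

/-- from a checker for the pair of primes -/
theorem nc_all {X : Type*} [Group X] {p : ℕ} {L : List ℕ} (h : ∀ q ∈ L.filter (fun q => !(q == p)), NC p q X) :
    ∀ q ∈ L, p ≠ q → NC p q X := by
  intro q hq hpq
  refine h q (List.mem_filter.2 ⟨hq, ?_⟩)
  simpa using hpq.symm

section fi22

open Cfsg.Spor Cfsg.Spor.Fi22 Cfsg.Agent.Lib.PermNet Cfsg.Agent.Lib.PermNetOrbit Cfsg.Agent.Fischer.Fi22PtsRep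
open Cfsg.Agent.LThreeFi22

theorem wd_eq {v w : List Gen} (h : checkEq 12 (nw v) (nw w) = true) : wd v = wd w := by
  apply Cfsg.Agent.Fischer.Fi22Order.φ_injective
  rw [φ_wd, φ_wd]
  exact wperm_eq_of_checkEq (nw_ok v) (nw_ok w) h

theorem fr37_fi22 : Fr 3 7 Spor.Fi22 := by
  have e1 : wd [.f, .d, .e, .b, .c, .d] * wd [.a, .b, .c, .d, .e, .f] =
      wd [.a, .b, .c, .d, .e, .f] * wd [.a, .b, .c, .d, .e, .f] * wd [.f, .d, .e, .b, .c, .d] := by
    rw [← wd_append, ← wd_append, ← wd_append]
    exact wd_eq (by decide +kernel)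
  have e2 : wd [.f, .d, .e, .b, .c, .d] ^ 3 = 1 := by
    rw [pow_succ, pow_two, ← wd_append, ← wd_append, ← wd_nil]
    exact wd_eq (by decide +kernel)
  have e3 : wd [.a, .b, .c, .d, .e, .f] ^ 7 = 1 := by
    simp only [pow_succ, pow_zero, one_mul]
    rw [← wd_append, ← wd_append, ← wd_append, ← wd_append, ← wd_append, ← wd_append, ← wd_nil]
    exact wd_eq (by decide +kernel)
  have e4 : wd [.a, .b, .c, .d, .e, .f] ≠ 1 := by
    intro h
    have h1 : φ (wd [.a, .b, .c, .d, .e, .f]) 0 = 0 := by rw [h, map_one]; rfl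
    rw [φ_wd, ← ptWord_eq (nw_ok _)] at h1
    have h2 : Nat.beq (ptWord (nw [.a, .b, .c, .d, .e, .f]) 0) 0 = false := by decide +kernel
    rw [h1] at h2
    exact absurd h2 (by decide)
  refine fr_of_rel (by norm_num) (by norm_num) e2 e3 (m := 2) ?_ ?_
  · rw [e1, pow_two, mul_inv_cancel_right]
  · intro h
    apply e4
    rw [h] at e1
    have h3 := mul_right_cancel e1
    exact mul_left_cancel (h3.symm.trans (mul_one _).symm)

end fi22

section row

open Cfsg.Agent.LThreeFi22

theorem three_fi22 {G : Type*} [Group G] (e : G ≃* Spor.Fi22) : Finite G ∧ ∃ x : G, orderOf x = 3 ∧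
    Nat.card (centralizer ({x} : Set G)) = 19595520 := by
  have C := Inst.ctx e
  have : Finite G := Nat.finite_of_card_ne_zero (by rw [C.card]; norm_num)
  refine ⟨this, ?_⟩
  have h3 : Fact (Nat.Prime 3) := ⟨by norm_num⟩
  obtain ⟨a, ha, b, hb, -, -, hab, -, -⟩ := C.mupos
  refine ⟨a * b, ?_, C.card_three ha hb hab⟩
  apply orderOf_eq_prime
  · have h1 := (C.three a ha b hb).resolve_left hab
    have ha2 := C.sq a ha
    have hb2 := C.sq b hb
    calc (a * b) ^ 3 = a * b * a * (b * a * b) := by simp only [pow_succ, pow_zero, one_mul, mul_assoc]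
      _ = a * b * a * (a * b * a) := by rw [h1]
      _ = a * b * (a * a) * b * a := by group
      _ = 1 := by rw [ha2, mul_one, mul_assoc a b b, hb2, mul_one, ha2]
  · intro h1
    apply hab
    have h2 : b = a := by
      calc b = a * a * b := by rw [C.sq a ha, one_mul]
        _ = a * (a * b) := by group
        _ = a := by rw [h1, mul_one]
    rw [h2]

theorem row_fi22 {G : Type*} [Group G] [Finite G] [IsSimpleGroup G] (h : Spor.IsoFi22 G) : Row G := by
  have hN := NotCT.Orders.fi22 h
  have hna := na_fi22 h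
  obtain ⟨e⟩ := h
  obtain ⟨-, x, hx, hc⟩ := three_fi22 e
  have n3 : ∀ q a : ℕ, q.Prime → 3 ≠ q → 64561751654400 % q ^ a = 0 → 19595520 % q ^ a ≠ 0 → NC 3 q G := by
    intro q a hq h3 h1 h2
    refine nc_of_card (a := a) hq h3 ⟨1, by rw [hx, pow_one]⟩ (by rw [hN]; exact Nat.dvd_of_mod_eq_zero h1) ?_
    rw [hc]
    exact fun h => h2 (Nat.mod_eq_zero_of_dvd h)
  have n511 : NC 5 11 G := by
    have hfin : Fact (Nat.Prime 11) := ⟨by norm_num⟩
    obtain ⟨y, hy⟩ := exists_prime_orderOf_dvd_card' (G := G) 11 (by rw [hN]; norm_num)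
    refine (nc_of_card (q := 5) (a := 2) (by norm_num) (by norm_num) (x := y) ⟨1, by rw [hy, pow_one]⟩
      (by rw [hN]; norm_num) ?_).symm
    rw [H713.Spor.Fi22.cent_11 e hy]
    norm_num
  refine row_of (N := 64561751654400) (k := 17) hN [3, 5, 7, 11, 13] [3] [13] 5 [(5, 11)] ?_ ?_ ?_ ?_ ?_ ?_ ?_ ?_
  · decide
  · decide
  · decide
  · exact ab_of_not_cube (by norm_num) (by rw [hN]; norm_num)
  · intro p hp
    obtain rfl := List.mem_singleton.1 hp
    refine nc_all ?_
    intro q hq
    have hq' : q = 5 ∨ q = 7 ∨ q = 11 ∨ q = 13 := by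
      simpa using hq
    rcases hq' with rfl | rfl | rfl | rfl
    · exact n3 5 2 (by norm_num) (by norm_num) (by norm_num) (by norm_num)
    · exact (fr37_fi22.congr e.symm).nc (by norm_num) (by norm_num)
    · exact n3 11 1 (by norm_num) (by norm_num) (by norm_num) (by norm_num)
    · exact n3 13 1 (by norm_num) (by norm_num) (by norm_num) (by norm_num)
  · intro r hr
    obtain rfl := List.mem_singleton.1 hr
    exact solv_of_na (by norm_num) (by rw [hN]; norm_num) hna
  · intro a ha
    obtain rfl := List.mem_singleton.1 ha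
    exact n511
  · decide

end row

end Cfsg.Agent.H995.NH
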