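import Cfsg.Agent.H995.CopLarge
import Cfsg.Agent.H729.PairMathieu
import Cfsg.Agent.H729.PairM11
import Cfsg.Agent.H729.PairTable
import Cfsg.Agent.H898.J3Cent
import Cfsg.Agent.H836.Main
import Cfsg.Agent.H839.SeventeenMain_m3
import Cfsg.Agent.H413.JOneLocal
import Cfsg.Agent.OddCyclic.EmpE.Kill
import Cfsg.Agent.H603.SporElim
import Cfsg.Agent.Prune
set_option linter.all false
prune_inst 0x7f00000000000000000000000000000000000000000000000000000000000000000000000000000000000000000000000000000000000000000000000000000000000000000000000000000000000000003fffffffffffffffffffffffffffbeffbdffffffff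
open scoped Cfsg.Agent.FastGrp

/-!
# No two classes of coprime sizes in `M11`, `M12`, `M22`, `M23`, `M24`, `J1`, `J2`, `J3`, `Suz`, `Ru`, `Fi22`, `Fi23`
(helper995, for S4158)

All from an element of prime order which is self-centralizing.
-/

set_option autoImplicit false

namespace Cfsg.Agent.H995.CopTwo

open Subgroup Cfsg Cfsg.Agent.H530.Cop Cfsg.Agent.SporadicA.GolayBase Cfsg.Agent.SporadicA.GolayPerm

/-- the form with the order of the centralizer -/
theorem noCop_of_r {G : Type*} [Group G] [Finite G] [IsSimpleGroup G] {r : ℕ} (hr : r.Prime) (hd : r ∣ Nat.card G)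
    (hne : ¬ (Nat.card G).Prime) (h : ∀ x : G, orderOf x = r → Nat.card (centralizer ({x} : Set G)) = r) : NoCop G := by
  have : Fact r.Prime := ⟨hr⟩
  obtain ⟨x, hx⟩ := exists_prime_orderOf_dvd_card' r hd
  exact noCop_of_self (not_comm_of_card hne) (z := x) (by rw [hx]; exact hr) (by rw [hx]; exact h x hx)

/-- a self-centralizing element -/
theorem noCop_of_cent {G : Type*} [Group G] [Finite G] [IsSimpleGroup G] {x : G} (hr : (orderOf x).Prime)
    (hne : ¬ (Nat.card G).Prime) (h : ∀ c : G, c * x = x * c → ∃ i : ℕ, c = x ^ i) : NoCop G := by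
  refine noCop_of_self (not_comm_of_card hne) (z := x) hr ?_
  have h1 : centralizer ({x} : Set G) = zpowers x := by
    apply le_antisymm
    · intro c hc
      obtain ⟨i, rfl⟩ := h c (mem_cent.1 hc)
      exact pow_mem (mem_zpowers x) i
    · rw [zpowers_le, mem_cent]
  rw [h1, Nat.card_zpowers]

/-! ### Mathieu groups -/

theorem cent_of_hom {G H : Type*} [Group G] [Group H] [Finite H] (φ : G →* H) (hφ : Function.Injective φ) {r : ℕ}
    (hr : r.Prime) (h : ∀ x : H, orderOf x = r → Nat.card (centralizer ({x} : Set H)) = r) (x : G)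
    (hx : orderOf x = r) : Nat.card (centralizer ({x} : Set G)) = r := by
  have hfin : Finite G := Finite.of_injective φ hφ
  have h1 := h (φ x) (by rw [orderOf_injective φ hφ, hx])
  have h2 : Nat.card (centralizer ({x} : Set G)) ∣ Nat.card (centralizer ({φ x} : Set H)) := by
    rw [← card_map_of_injective hφ]
    refine card_dvd_of_le ?_
    rintro _ ⟨g, hg, rfl⟩
    rw [mem_cent, ← map_mul, ← map_mul, mem_cent.1 hg]
  rw [h1] at h2
  rcases (Nat.dvd_prime hr).1 h2 with h3 | h3
  · exfalso
    have h4 : orderOf x ∣ Nat.card (centralizer ({x} : Set G)) :=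
      Subgroup.orderOf_dvd_natCard _ (mem_cent.2 rfl)
    rw [h3, hx] at h4
    exact hr.one_lt.ne' (Nat.dvd_one.1 h4)
  · exact h3

theorem cent_m24 (x : M24) (hx : orderOf x = 11) : Nat.card (centralizer ({x} : Set M24)) = 11 :=
  H729.PairMathieu.card_cent_eleven hx

theorem noCop_m24 {G : Type*} [Group G] (h : Spor.IsoM24 G) : NoCop G := by
  obtain ⟨e⟩ := h
  refine NoCop.congr e.symm ?_
  have : IsSimpleGroup M24 := Cfsg.Agent.S0365.result
  have hc : Nat.card M24 = 244823040 := Cfsg.Agent.S0364.result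
  exact noCop_of_r (r := 11) (by norm_num) (by rw [hc]; norm_num) (by rw [hc]; norm_num) cent_m24

theorem noCop_m23 {G : Type*} [Group G] (h : Spor.IsoM23 G) : NoCop G := by
  obtain ⟨e⟩ := h
  refine NoCop.congr e.symm ?_
  have := H729.PairMathieu.simple_M23
  have hc : Nat.card Spor.M23 = 10200960 := Cfsg.Agent.SporadicA.MathieuRecog.card_M23
  exact noCop_of_r (r := 11) (by norm_num) (by rw [hc]; norm_num) (by rw [hc]; norm_num)
    (cent_of_hom H729.PairMathieu.inc23 H729.PairMathieu.inc23_injective (by norm_num) cent_m24)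

theorem noCop_m22 {G : Type*} [Group G] (h : Spor.IsoM22 G) : NoCop G := by
  obtain ⟨e⟩ := h
  refine NoCop.congr e.symm ?_
  have := Cfsg.Agent.SporadicA.MathieuRecog.simple_M22
  have hc : Nat.card Spor.M22 = 443520 := Cfsg.Agent.SporadicA.MathieuRecog.card_M22
  exact noCop_of_r (r := 11) (by norm_num) (by rw [hc]; norm_num) (by rw [hc]; norm_num)
    (cent_of_hom H729.M22Deg.inc H729.M22Deg.inc_injective (by norm_num) cent_m24)

theorem noCop_m12 {G : Type*} [Group G] [Finite G] [IsSimpleGroup G] (h : Spor.IsoM12 G) : NoCop G := by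
  have hc : Nat.card G = 95040 := NotCT.Orders.m12 h
  obtain ⟨e⟩ := h
  exact noCop_of_r (r := 11) (by norm_num) (by rw [hc]; norm_num) (by rw [hc]; norm_num)
    (cent_of_hom (H729.PairMathieu.inc12.comp e.toMonoidHom)
      (H729.PairMathieu.inc12_injective.comp e.injective) (by norm_num) cent_m24)

theorem noCop_m11 {G : Type*} [Group G] (h : Spor.IsoM11 G) : NoCop G := by
  have hG := Cit.Eleven.isM11 h
  have : Finite G := Nat.finite_of_card_ne_zero (by rw [hG.2]; norm_num)
  have := hG.1
  exact noCop_of_r (r := 11) (by norm_num) (by rw [hG.2]; norm_num) (by rw [hG.2]; norm_num)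
    fun x hx => SporadicA.M11Sylow.card_centralizer_eleven hG hx

/-! ### Janko groups -/

theorem noCop_j1 {G : Type*} [Group G] (h : Spor.IsoJ1 G) : NoCop G := by
  obtain ⟨e⟩ := h
  refine NoCop.congr e.symm ?_
  obtain ⟨hs, hc⟩ := Cfsg.Agent.SporadicB.J1.Main.isJ1
  have : Finite Spor.J1 := Nat.finite_of_card_ne_zero (by rw [hc]; norm_num)
  exact noCop_of_r (r := 19) (by norm_num) (by rw [hc]; norm_num) (by rw [hc]; norm_num)
    fun x hx => OddCyclic.EmpE.Kill.card_cent H413.JOneLocal.isLocal hc hx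

theorem noCop_j3 {G : Type*} [Group G] (h : Spor.IsoJ3 G) : NoCop G := by
  obtain ⟨hs, hc, -⟩ := H898.J3Cent.base h
  have : Finite G := Nat.finite_of_card_ne_zero (by rw [hc]; norm_num)
  exact noCop_of_r (r := 19) (by norm_num) (by rw [hc]; norm_num) (by rw [hc]; norm_num)
    fun x hx => H898.J3Cent.card_nineteen h hx

theorem noCop_j2 {G : Type*} [Group G] [Finite G] [IsSimpleGroup G] (h : Spor.IsoJ2 G) : NoCop G := by
  obtain ⟨e⟩ := h
  obtain ⟨f⟩ := Cfsg.Agent.J2.HundredGens.J2_iso Cfsg.Agent.S1619.result.2.2.2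
  have hc : Nat.card G = 604800 := (Nat.card_congr e.toEquiv).trans Cfsg.Agent.S1619.result.2.2.2
  let φ := e.trans f
  let x : SporadicA.J2Hundred.G := ⟨OddHalf.Table.OutJ2.x, OddHalf.Table.OutJ2.x_mem⟩
  have hx : orderOf x = 7 := by rw [Subgroup.orderOf_mk]; exact OddHalf.Table.OutJ2.order_x
  refine noCop_of_cent (x := φ.symm x) ?_ (by rw [hc]; norm_num) fun c hcx => ?_
  · rw [show orderOf (φ.symm x) = orderOf x from MulEquiv.orderOf_eq φ.symm x, hx]
    norm_num
  · have h1 : φ c * x = x * φ c := by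
      have h2 := congrArg φ hcx
      rwa [map_mul, map_mul, φ.apply_symm_apply] at h2
    obtain ⟨i, hi⟩ := OddHalf.Table.OutJ2.cent_x (φ c).2 (congrArg Subtype.val h1)
    refine ⟨i, φ.injective ?_⟩
    rw [map_pow, φ.apply_symm_apply]
    exact Subtype.ext hi

/-! ### Fischer groups -/

theorem noCop_fi22 {G : Type*} [Group G] [IsSimpleGroup G] (h : Spor.IsoFi22 G) : NoCop G := by
  obtain ⟨e⟩ := h
  have I := H836.inv_of_iso e
  have hfin : Finite G := I.ctx.finite
  have hc := I.ctx.card
  refine noCop_of_r (r := 13) (by norm_num) (by rw [hc]; norm_num) (by rw [hc]; norm_num) fun x hx => ?_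
  obtain ⟨-, h2⟩ := (H836.Main.thirteen_concl e).2 (zpowers x) (by rw [Nat.card_zpowers, hx])
  rw [H729.PairBase.centralizer_zpowers_eq] at h2
  rw [h2, Nat.card_zpowers, hx]

theorem noCop_fi23 {G : Type*} [Group G] [Finite G] [IsSimpleGroup G] (h : Spor.IsoFi23 G) : NoCop G := by
  have hc := NotCT.Orders.fi23 h
  obtain ⟨e⟩ := h
  refine noCop_of_r (r := 23) (by norm_num) (by rw [hc]; norm_num) (by rw [hc]; norm_num) fun x hx => ?_
  obtain ⟨-, h2⟩ := H839.Fi23.SC.map_all e.symm H839.Fi23.twentythree_main (zpowers x) (by rw [Nat.card_zpowers, hx])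
  rw [H729.PairBase.centralizer_zpowers_eq] at h2
  rw [h2, Nat.card_zpowers, hx]

end Cfsg.Agent.H995.CopTwo
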