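import Cfsg.Agent.H995.CopCoprime
import Cfsg.Agent.H995.CopLarge
import Cfsg.Agent.KFacts.Baby.RowB_m3
import Cfsg.Agent.H713.Spor.B
import Cfsg.Agent.H94.Sp.Base_m3
import Cfsg.Agent.Prune
set_option linter.all false
prune_inst 0x7f00000000000000000000000000000000000000000000000000000000000000000000000000000000000000000000000000000000000000000000000000000000000000000000000000000000000000003fffffffffffffffffffffffffffbeffbdffffffff
open scoped Cfsg.Agent.FastGrp

/-!
# No two classes of coprime sizes in the Baby Monster (helper995, for S4158)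
-/

set_option autoImplicit false

namespace Cfsg.Agent.H995.CopTwo

open Subgroup Cfsg Cfsg.Agent.H530.Cop Cfsg.Agent.H995.CopEngine
open Cfsg.Agent.BabyM Cfsg.Agent.BabyM.Model Cfsg.Agent.BabyU.ClosModel Cfsg.Agent.BabyU.ClosLane

/-- the factorization of `|B|` -/
def lB : List (ℕ × ℕ) := [(2, 41), (3, 13), (5, 6), (7, 2), (11, 1), (13, 1), (17, 1), (19, 1), (23, 1), (31, 1), (47, 1)]

theorem lB_valid : OrdDiv.valid lB 4154781481226426191177580544000000 = true := by decide +kernel

theorem chkB : chkOne lB 4154781481226426191177580544000000 47 51888 = true := by decide +kernel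

/-- no involution centralizer of the Baby Monster has order divisible by 47 -/
theorem iso_fortyseven (t : Spor.BabyMonster) (ht : orderOf t = 2) :
    ¬ 47 ∣ Nat.card (centralizer ({t} : Set Spor.BabyMonster)) := by
  intro h
  rcases Cfsg.Agent.H713.Spor.B.dvd_cases (by norm_num) (by norm_num) ht h with h1 | h1 <;> norm_num at h1

theorem card_eM {G H : Type*} [Group G] [Group H] [Finite H] (e : G ≃* H) (t : G) :
    Nat.card (centralizer ({t} : Set G)) ∣ Nat.card (centralizer ({e t} : Set H)) := by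
  rw [← card_map_of_injective (f := e.toMonoidHom) e.injective]
  refine card_dvd_of_le ?_
  rintro _ ⟨g, hg, rfl⟩
  have h3 := mem_cent.1 hg
  exact mem_cent.2 (by
    show e g * e t = e t * e g
    rw [← map_mul, ← map_mul, h3])

/-- the numbers -/
theorem arith_b {c e : ℕ} (hc : 2489296274176359375 ∣ c) (hc2 : c ∣ 1889375872099856765625) (he : e ∣ 46)
    (hd : c * e ∣ 4154781481226426191177580544000000)
    (h : 4154781481226426191177580544000000 / (c * e) % 47 = 1 % 47) : False := by
  obtain ⟨f, rfl⟩ := hc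
  have e1 : (1889375872099856765625 : ℕ) = 2489296274176359375 * 759 := by norm_num
  rw [e1] at hc2
  have hf : f ∣ 759 := Nat.dvd_of_mul_dvd_mul_left (by norm_num) hc2
  have hf' : f ∈ ([1, 3, 11, 23, 33, 69, 253, 759] : List ℕ) := by
    have h1 : f ≤ 759 := Nat.le_of_dvd (by norm_num) hf
    have h2 : ∀ f < 760, f ∣ 759 → f ∈ ([1, 3, 11, 23, 33, 69, 253, 759] : List ℕ) := by decide +kernel
    exact h2 f (by omega) hf
  have he' : e ∈ ([1, 2, 23, 46] : List ℕ) := by
    have h1 : e ≤ 46 := Nat.le_of_dvd (by norm_num) he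
    have h2 : ∀ f < 47, f ∣ 46 → f ∈ ([1, 2, 23, 46] : List ℕ) := by decide +kernel
    exact h2 e (by omega) he
  have h3 : ∀ f ∈ ([1, 3, 11, 23, 33, 69, 253, 759] : List ℕ), ∀ e ∈ ([1, 2, 23, 46] : List ℕ),
      4154781481226426191177580544000000 % (2489296274176359375 * f * e) = 0 →
      4154781481226426191177580544000000 / (2489296274176359375 * f * e) % 47 ≠ 1 % 47 := by decide +kernel
  exact h3 f hf' e he' (Nat.mod_eq_zero_of_dvd hd) h

/-- **The Baby Monster.** -/
theorem noCop_baby (hK : AllKnown.{0}) (e : Spor.BabyMonster ≃* ↥Inst.M.G) : NoCop ↥Inst.M.G := by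
  have hf : Finite Inst.M.G := A.finite_G
  have hc : Nat.card Inst.M.G = 4154781481226426191177580544000000 := A.card_G
  have hfB : Finite Spor.BabyMonster := Finite.of_equiv _ e.symm.toEquiv
  have hsB : IsSimpleGroup Spor.BabyMonster := (S1704.result : Cfsg.IsB Cfsg.Spor.BabyMonster).1
  have hnt : Nontrivial Inst.M.G := e.symm.toEquiv.nontrivial
  have hs : IsSimpleGroup Inst.M.G := IsSimpleGroup.isSimpleGroup_of_surjective e.toMonoidHom e.surjective
  have hL := Cfsg.Agent.KFacts.Baby.Inst.large A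
  have hna : ¬ IsMulCommutative Inst.M.G := not_comm_of_card (by rw [hc]; norm_num)
  have hiso : ∀ t : Inst.M.G, orderOf t = 2 → ¬ 47 ∣ Nat.card (centralizer ({t} : Set Inst.M.G)) := by
    intro t ht h
    have h1 := h.trans (card_eM e.symm t)
    exact iso_fortyseven (e.symm t) (by rw [MulEquiv.orderOf_eq, ht]) h1
  refine noCop_of_bad hna Nat.prime_two (PP Inst.M) (large_pGroup hL) fun x y hB _ hxQ => ?_
  rcases large_cent hL hxQ with hx | hx
  · exact hB.x1 hx
  have hcx : Nat.card (centralizer ({x} : Set Inst.M.G)) = 2 ^ 23 * 42305421312000 := by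
    rw [hx, Nat.card_congr (Cfsg.Agent.KFacts.Baby.Inst.eC A).toEquiv, A.grp.card_C]
  set H := centralizer ({y} : Set Inst.M.G) with hH
  have full : ∀ {p k : ℕ}, p.Prime → p ^ k ∣ 4154781481226426191177580544000000 → ¬ p ^ k ∣ 2 ^ 23 * 42305421312000 →
      p ^ k ∣ Nat.card H := by
    intro p k hp h1 h2
    exact hB.pow_dvd hp (dvd_ci_of_not_dvd (k := k) hp (by rw [hc]; exact h1) (by rw [hcx]; exact h2)) (by rw [hc]; exact h1)
  have h47H : 47 ∣ Nat.card H := by
    have := full (p := 47) (k := 1) (by norm_num) (by norm_num) (by norm_num)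
    rwa [pow_one] at this
  obtain ⟨K, hKn, h47K, hidx⟩ := exists_normal hK (not_top_of_bad hna hB) hc lB_valid (by norm_num) h47H
    (by norm_num) chkB (dvd_mod_one (by norm_num) 1104 24 (by norm_num) (by norm_num) (by norm_num) (by decide))
  have : Fact (Nat.Prime 47) := ⟨by norm_num⟩
  obtain ⟨w, hw⟩ := exists_prime_orderOf_dvd_card' 47 h47H
  have key : ∀ {p k j m : ℕ}, p.Prime → p ≠ 47 → p ^ (k + j) ∣ 4154781481226426191177580544000000 →
      ¬ p ^ (k + j) ∣ 2 ^ 23 * 42305421312000 → ¬ p ^ (j + 1) ∣ 47 * (47 - 1) * (47 + 1) →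
      ¬ p ^ (m + 1) ∣ 4154781481226426191177580544000000 → condB 47 p m = true →
      p ^ k ∣ Nat.card (centralizer ({(w : Inst.M.G)} : Set Inst.M.G)) := by
    intro p k j m hp hp47 h1 h2 h3 h4 h5
    have h6 := pow_dvd_normal K hp (full hp h1 h2) hidx h3
    exact pow_dvd_centralizer (by norm_num) K h47K hw hp hp47 h6 (by rw [hc]; exact cond_of_chk hp h4 h5)
  set c := Nat.card (centralizer ({(w : Inst.M.G)} : Set Inst.M.G)) with hcdef
  have hw' : orderOf (w : Inst.M.G) = 47 := by rw [Subgroup.orderOf_coe]; exact hw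
  have c47 : 47 ∣ c := by
    rw [← hw']
    exact Subgroup.orderOf_dvd_natCard _ (mem_cent.2 rfl)
  have c3 : 3 ^ 12 ∣ c := key (k := 12) (j := 1) (m := 13) (by norm_num) (by norm_num) (by norm_num) (by norm_num)
    (by norm_num) (by norm_num) (by decide +kernel)
  have c5 : 5 ^ 6 ∣ c := key (k := 6) (j := 0) (m := 6) (by norm_num) (by norm_num) (by norm_num) (by norm_num)
    (by norm_num) (by norm_num) (by decide +kernel)
  have c7 : 7 ^ 2 ∣ c := key (k := 2) (j := 0) (m := 2) (by norm_num) (by norm_num) (by norm_num) (by norm_num)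
    (by norm_num) (by norm_num) (by decide +kernel)
  have c13 : 13 ^ 1 ∣ c := key (k := 1) (j := 0) (m := 1) (by norm_num) (by norm_num) (by norm_num) (by norm_num)
    (by norm_num) (by norm_num) (by decide +kernel)
  have c17 : 17 ^ 1 ∣ c := key (k := 1) (j := 0) (m := 1) (by norm_num) (by norm_num) (by norm_num) (by norm_num)
    (by norm_num) (by norm_num) (by decide +kernel)
  have c19 : 19 ^ 1 ∣ c := key (k := 1) (j := 0) (m := 1) (by norm_num) (by norm_num) (by norm_num) (by norm_num)
    (by norm_num) (by norm_num) (by decide +kernel)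
  have c31 : 31 ^ 1 ∣ c := key (k := 1) (j := 0) (m := 1) (by norm_num) (by norm_num) (by norm_num) (by norm_num)
    (by norm_num) (by norm_num) (by decide +kernel)
  have hM : 2489296274176359375 ∣ c := by
    have e1 : (2489296274176359375 : ℕ) = ((((((47 * 3 ^ 12) * 5 ^ 6) * 7 ^ 2) * 13 ^ 1) * 17 ^ 1) * 19 ^ 1) * 31 ^ 1 := by
      norm_num
    rw [e1]
    refine Nat.Coprime.mul_dvd_of_dvd_of_dvd (by norm_num) ?_ c31
    refine Nat.Coprime.mul_dvd_of_dvd_of_dvd (by norm_num) ?_ c19
    refine Nat.Coprime.mul_dvd_of_dvd_of_dvd (by norm_num) ?_ c17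
    refine Nat.Coprime.mul_dvd_of_dvd_of_dvd (by norm_num) ?_ c13
    refine Nat.Coprime.mul_dvd_of_dvd_of_dvd (by norm_num) ?_ c7
    refine Nat.Coprime.mul_dvd_of_dvd_of_dvd (by norm_num) ?_ c5
    exact Nat.Coprime.mul_dvd_of_dvd_of_dvd (by norm_num) c47 c3
  have hodd : ¬ 2 ∣ c := by
    intro h2
    have : Fact (Nat.Prime 2) := ⟨Nat.prime_two⟩
    obtain ⟨t, ht⟩ := exists_prime_orderOf_dvd_card' 2 h2
    refine hiso (t : Inst.M.G) (by rw [Subgroup.orderOf_coe]; exact ht) ?_
    rw [← hw']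
    refine Subgroup.orderOf_dvd_natCard _ (mem_cent.2 ?_)
    exact (mem_cent.1 t.2).symm
  have hcN : c ∣ 1889375872099856765625 := by
    have h1 : c ∣ 2 ^ 41 * 1889375872099856765625 := by
      have e1 : (2 ^ 41 * 1889375872099856765625 : ℕ) = 4154781481226426191177580544000000 := by norm_num
      rw [e1, ← hc]
      exact Subgroup.card_subgroup_dvd_card _
    exact Nat.Coprime.dvd_of_dvd_mul_left
      (Nat.Coprime.pow_right 41 ((Nat.Prime.coprime_iff_not_dvd Nat.prime_two).2 hodd).symm) h1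
  obtain ⟨e', he', hd', h3⟩ := Cfsg.Agent.H94.PG.Sp.sylow_arith (by norm_num : Nat.Prime 47) hw' (by rw [hc]; norm_num)
  rw [hc] at h3 hd'
  exact arith_b hM hcN he' hd' h3

theorem noCop_b (hK : AllKnown.{0}) {G : Type*} [Group G] (h : Spor.IsoB G) : NoCop G := by
  obtain ⟨e⟩ := h
  have hsB : IsSimpleGroup Spor.BabyMonster := (S1704.result : Cfsg.IsB Cfsg.Spor.BabyMonster).1
  obtain ⟨f⟩ := Cfsg.Agent.KFacts.Baby.Sheet.exists_iso
  exact NoCop.congr (e.trans f).symm (noCop_baby hK f)

end Cfsg.Agent.H995.CopTwo
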